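import Cfsg.Agent.H35.T1683.PChk0
import Cfsg.Agent.H35.T1683.PChk1

set_option autoImplicit false
set_option linter.all false

namespace Cfsg.Agent.H35

theorem t1683_pall : ∀ p, p < 2058 → t1683_pf p = true := by
  apply allR_blocks t1683_pf 2058 10 3 _ (by decide)
  intro k hk
  interval_cases k
  · exact t1683_pchk_0
  · exact t1683_pchk_1
  · exact t1683_pchk_2

theorem t1683_psub : t1683_pd.subOK t1683_sw = true := by decide +kernel

end Cfsg.Agent.H35
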