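import Cfsg.Agent.H35.T1683.RChk0
import Cfsg.Agent.H35.T1683.RChk1

set_option autoImplicit false
set_option linter.all false

namespace Cfsg.Agent.H35

theorem t1683_rall : ∀ p, p < 5991 → t1683_rf p = true := by
  apply allR_blocks t1683_rf 5991 11 3 _ (by decide)
  intro k hk
  interval_cases k
  · exact t1683_rchk_0
  · exact t1683_rchk_1
  · exact t1683_rchk_2

theorem t1683_circ_ok : circChk (fullW he_rws he_prels) t1683_circT 0 t1683_ccert = true := by decide +kernel
theorem t1683_hc_ok : allR (fun c => hcChk t1683_rsw t1683_hc1T t1683_hc2T c) 7 3 0 = true := by decide +kernel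
theorem t1683_h0 : RData.aord (t1683_rd.ent 0 1) = 0 := by decide +kernel

end Cfsg.Agent.H35
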